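import Cfsg.Agent.Lib.OddAut.Graph
import Cfsg.Agent.Lib.PushMin.Baumann
import Cfsg.Agent.Lib.LocalCGT.SubBlock.Basic
import Mathlib.GroupTheory.OrderOfElement

/-!
In a two-minimal group with blocks the elements of odd order act trivially on `O_2(G)` modulo the
module `Ω₁(Z(O_2(G)))`.
-/

set_option autoImplicit false
set_option linter.unusedSectionVars false

namespace CfsgLib.OddAut

open CfsgLib.LocalCGT CfsgLib.Transfer CfsgLib.PushMin
open scoped commutatorElement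

variable {G : Type*} [Group G] [Finite G]

local notation "Q" => Cfsg.pCore 2 G

/-- `O_2(G)` modulo the module is centralized by the elements of odd order. -/
theorem core_comm_le (hG : Subgroup.centralizer (Q : Set G) ≤ Q) (T : Sylow 2 G)
    {𝓑 : Set (Subgroup G)} (hB : Cfsg.HasBaumannBlockStructure 2 (T : Subgroup G) 𝓑)
    (hC : Cfsg.cStarOf 2 (T : Subgroup G) =
      (Cfsg.cStarOf 2 (T : Subgroup G) ⊓ sSup 𝓑) ⊔ (T : Subgroup G)) :
    ⁅Q, Cfsg.pResidual 2 G⁆ ≤ VV 2 G := by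
  haveI : Fact (Nat.Prime 2) := ⟨Nat.prime_two⟩
  obtain ⟨hblock, hconj, hcomm, htop, -, -, -⟩ := hB
  set L := sSup 𝓑 with hL
  have hLn : L.Normal := by
    refine ⟨fun x hx g => ?_⟩
    have hle : L.map (MulAut.conj g).toMonoidHom ≤ L := by
      rw [Subgroup.map_le_iff_le_comap]
      exact sSup_le fun E hE => Subgroup.map_le_iff_le_comap.1 (le_sSup (hconj E hE g))
    exact hle ⟨x, hx, rfl⟩
  have hsn : ∀ E ∈ 𝓑, E.IsSubnormal := by
    intro E hE
    have hnorm : L ≤ Subgroup.normalizer (E : Set G) := by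
      refine sSup_le fun F hF => ?_
      by_cases h : F = E
      · exact h ▸ Subgroup.le_normalizer
      · exact (Subgroup.commutator_eq_bot_iff_le_centralizer.1 (hcomm F hF E hE h)).trans
          (Subgroup.centralizer_le_normalizer _)
    refine Subgroup.IsSubnormal.trans (le_sSup hE) ?_ hLn.isSubnormal
    exact Subgroup.Normal.isSubnormal
      ((Subgroup.normal_subgroupOf_iff_le_normalizer (le_sSup hE)).2 hnorm)
  have hQL : ⁅Q, L⁆ ≤ VV 2 G := by
    refine Subgroup.commutator_le.2 fun q hq l hl => ?_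
    let C : Subgroup G :=
      { carrier := {l | ∀ q ∈ Q, ⁅q, l⁆ ∈ VV 2 G}
        one_mem' := fun q _ => by rw [commutatorElement_one_right]; exact one_mem _
        mul_mem' := fun {a b} ha hb q hq => by
          rw [show ⁅q, a * b⁆ = ⁅q, a⁆ * (a * ⁅q, b⁆ * a⁻¹) by
            simp only [commutatorElement_def]; group]
          exact mul_mem (ha q hq) ((VV_normal (G := G) (p := 2)).conj_mem _ (hb q hq) a)
        inv_mem' := fun {a} ha q hq => by
          rw [show ⁅q, a⁻¹⁆ = a⁻¹ * (⁅q, a⁆)⁻¹ * a⁻¹⁻¹ by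
            simp only [commutatorElement_def]; group]
          exact (VV_normal (G := G) (p := 2)).conj_mem _ (inv_mem (ha q hq)) _ }
    have hle : L ≤ C := by
      refine sSup_le fun E hE e he q hq => ?_
      have sb := SubBlock.sb_of_block hG ⟨T, hblock E hE⟩ (hsn E hE)
      rcases sb.excep with h | ⟨-, h3, -⟩
      · exact sb.ww_le (h ▸ sb.core_commutator_le (Subgroup.commutator_mem_commutator hq he))
      · exact absurd h3 (by norm_num)
    exact hle hl q hq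
  refine le_trans (Subgroup.commutator_mono le_rfl ?_) hQL
  refine pResidual_le_of_isPGroup_quotient (p := 2) L ?_
  have hsup : (T : Subgroup G) ⊔ L = ⊤ := by
    refine top_le_iff.1 (htop.ge.trans (sup_le ?_ le_sup_right))
    rw [hC]
    exact sup_le (inf_le_right.trans le_sup_right) le_sup_left
  refine T.2.of_surjective ((QuotientGroup.mk' L).comp (T : Subgroup G).subtype) fun x => ?_
  obtain ⟨g, rfl⟩ := QuotientGroup.mk'_surjective L x
  obtain ⟨t, ht, l, hl, rfl⟩ := Subgroup.mem_sup_of_normal_right.1 (hsup ▸ Subgroup.mem_top g)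
  exact ⟨⟨t, ht⟩, (QuotientGroup.mk_mul_of_mem t hl).symm⟩

/-- Squares and commutators of the kernel centralize the elements of odd order. -/
theorem core_sq {R : Subgroup G} (hR : ⁅Q, R⁆ ≤ VV 2 G) :
    (∀ q ∈ Q, q * q ∈ Subgroup.centralizer (R : Set G)) ∧
      ∀ q ∈ Q, ∀ r ∈ Q, ⁅q, r⁆ ∈ Subgroup.centralizer (R : Set G) := by
  have hVc : ∀ q ∈ Q, ∀ v ∈ VV 2 G, Commute q v := fun q hq v hv =>
    (Subgroup.mem_centralizer_iff.1 (Q_le_CV hq) v hv).symm
  have hsq : ∀ v ∈ VV 2 G, v * v = 1 := fun v hv => by rw [← pow_two]; exact isAbExp_VV.2 v hv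
  have hconjq : ∀ q ∈ Q, ∀ l ∈ R, l * q * l⁻¹ = ⁅q, l⁆⁻¹ * q := fun q _ l _ => by
    rw [commutatorElement_def]; group
  constructor
  · intro q hq
    refine Subgroup.mem_centralizer_iff.2 fun l hl => ?_
    have hu := hR (Subgroup.commutator_mem_commutator hq hl)
    have e : l * (q * q) * l⁻¹ = q * q := by
      calc l * (q * q) * l⁻¹ = (l * q * l⁻¹) * (l * q * l⁻¹) := by group
        _ = ⁅q, l⁆⁻¹ * (q * ⁅q, l⁆⁻¹) * q := by rw [hconjq q hq l hl]; group
        _ = (⁅q, l⁆⁻¹ * ⁅q, l⁆⁻¹) * (q * q) := by rw [(hVc q hq _ (inv_mem hu)).eq]; group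
        _ = q * q := by rw [hsq _ (inv_mem hu), one_mul]
    calc l * (q * q) = l * (q * q) * l⁻¹ * l := by group
      _ = q * q * l := by rw [e]
  · intro q hq r hr
    refine Subgroup.mem_centralizer_iff.2 fun l hl => ?_
    have hu := hR (Subgroup.commutator_mem_commutator hq hl)
    have hw := hR (Subgroup.commutator_mem_commutator hr hl)
    have e : l * ⁅q, r⁆ * l⁻¹ = ⁅q, r⁆ := by
      rw [show l * ⁅q, r⁆ * l⁻¹ = ⁅l * q * l⁻¹, l * r * l⁻¹⁆ by
        simp only [commutatorElement_def]; group, hconjq q hq l hl, hconjq r hr l hl]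
      have c0 : Commute ⁅q, l⁆⁻¹ ⁅r, l⁆⁻¹ := congrArg Subtype.val
        ((isAbExp_VV (G := G) (p := 2)).1.is_comm.comm ⟨_, inv_mem hu⟩ ⟨_, inv_mem hw⟩)
      have c1 : Commute ⁅q, l⁆⁻¹ (⁅r, l⁆⁻¹ * r) :=
        c0.mul_right (hVc r hr _ (inv_mem hu)).symm
      have c2 : Commute q ⁅r, l⁆⁻¹ := hVc q hq _ (inv_mem hw)
      rw [commutatorElement_def, commutatorElement_def]
      calc ⁅q, l⁆⁻¹ * q * (⁅r, l⁆⁻¹ * r) * (⁅q, l⁆⁻¹ * q)⁻¹ * (⁅r, l⁆⁻¹ * r)⁻¹
          = ⁅q, l⁆⁻¹ * (q * ⁅r, l⁆⁻¹ * r * q⁻¹) * ⁅q, l⁆⁻¹⁻¹ * (⁅r, l⁆⁻¹ * r)⁻¹ := by group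
        _ = ⁅q, l⁆⁻¹ * ((q * r * q⁻¹ * r⁻¹) * (⁅r, l⁆⁻¹ * r)) * ⁅q, l⁆⁻¹⁻¹ *
              (⁅r, l⁆⁻¹ * r)⁻¹ := by
            have c3 : Commute (q * r * q⁻¹ * r⁻¹) ⁅r, l⁆⁻¹ := hVc _ (mul_mem (mul_mem
              (mul_mem hq hr) (inv_mem hq)) (inv_mem hr)) _ (inv_mem hw)
            rw [c2.eq]
            congr 1
            congr 1
            congr 1
            calc ⁅r, l⁆⁻¹ * q * r * q⁻¹ = ⁅r, l⁆⁻¹ * (q * r * q⁻¹ * r⁻¹) * r := by group
              _ = q * r * q⁻¹ * r⁻¹ * (⁅r, l⁆⁻¹ * r) := by rw [← c3.eq]; group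
        _ = q * r * q⁻¹ * r⁻¹ := by
            have c3 : Commute ⁅q, l⁆⁻¹ (q * r * q⁻¹ * r⁻¹) := (hVc _ (mul_mem (mul_mem
              (mul_mem hq hr) (inv_mem hq)) (inv_mem hr)) _ (inv_mem hu)).symm
            rw [(c3.mul_right c1).eq]; group
    calc l * ⁅q, r⁆ = l * ⁅q, r⁆ * l⁻¹ * l := by group
      _ = ⁅q, r⁆ * l := by rw [e]

omit [Finite G] in
/-- Undoing the power in which an element of order three loses its two-part. -/
theorem pow_four_pow_of_cube {M : Type*} [Monoid M] {m : M} (hm : m ^ 3 = 1) :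
    ∀ k : ℕ, m ^ 4 ^ k = m
  | 0 => pow_one m
  | k + 1 => by
    rw [pow_succ, pow_mul, pow_four_pow_of_cube hm k, show (4 : ℕ) = 3 + 1 from rfl, pow_succ, hm,
      one_mul]

/-- An element with prescribed image of order three has a power of odd order with that image. -/
theorem exists_odd_pow (e : G) : ∃ k : ℕ, (orderOf (e ^ 4 ^ k)).Coprime 2 := by
  have hne : orderOf e ≠ 0 := (orderOf_pos e).ne'
  obtain ⟨k, m, hm, hn⟩ := Nat.exists_eq_two_pow_mul_odd hne
  refine ⟨k, Nat.coprime_two_right.2 (Odd.of_dvd_nat hm (orderOf_dvd_of_pow_eq_one ?_))⟩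
  rw [← pow_mul, show 4 ^ k * m = 2 ^ k * m * 2 ^ k by
    rw [show (4 : ℕ) = 2 * 2 from rfl, mul_pow]; ring, ← hn, pow_mul, pow_orderOf_eq_one, one_pow]

end CfsgLib.OddAut
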