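import Cfsg.Agent.Lib.OddAut.Main
import Cfsg.Agent.Lib.PushMin.LinOf
import Cfsg.Agent.Lib.PushMin.SymSys
import Cfsg.Agent.Lib.PushMin.Assemble
import Cfsg.Agent.Lib.BlockNear.Main
import Cfsg.Agent.Lib.LocalCGT.FixLift.C2
import Cfsg.Agent.Lib.PMinFF.HatThm

/-!
Odd-order automorphisms of a Sylow two-subgroup contained in a unique maximal subgroup, from the
pushing-up theorem.
-/

set_option autoImplicit false
set_option linter.unusedSectionVars false
set_option linter.style.haveILetI false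

namespace CfsgLib.OddAut

open CfsgLib.Transfer CfsgLib.PushMin Equiv
open scoped commutatorElement

variable {G : Type*} [Group G] [Finite G]

local notation "Q" => Cfsg.pCore 2 G

theorem omegaOneCenter_char (T : Subgroup G) :
    ((Cfsg.omegaOneCenter 2 T).subgroupOf T).Characteristic := by
  have hT : Cfsg.omegaOneCenter 2 T = (Cfsg.omegaOneCenter 2 (⊤ : Subgroup T)).map T.subtype := by
    rw [map_omegaOneCenter T.subtype_injective, ← MonoidHom.range_eq_map, Subgroup.range_subtype]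
  rw [hT, Subgroup.subgroupOf, Subgroup.comap_map_eq_self_of_injective T.subtype_injective,
    Subgroup.characteristic_iff_map_eq]
  intro φ
  rw [map_omegaOneCenter φ.injective, Subgroup.map_top_of_surjective φ.toMonoidHom φ.surjective]

theorem omegaOneCenter_ne_bot {T : Subgroup G} (hT : IsPGroup 2 T) (h : T ≠ ⊥) :
    Cfsg.omegaOneCenter 2 T ≠ ⊥ := by
  haveI : Fact (Nat.Prime 2) := ⟨Nat.prime_two⟩
  haveI : Nontrivial T := (Subgroup.nontrivial_iff_ne_bot T).2 h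
  haveI := hT.center_nontrivial
  obtain ⟨n, hn, hcard⟩ := (hT.to_subgroup (Subgroup.center T)).nontrivial_iff_card.1 inferInstance
  obtain ⟨z, hz⟩ := exists_prime_orderOf_dvd_card' (G := Subgroup.center T) 2
    (by rw [hcard]; exact dvd_pow_self 2 hn.ne')
  intro hbot
  have hmem : ((z : T) : G) ∈ Cfsg.omegaOneCenter 2 T := by
    refine Subgroup.subset_closure ⟨Subgroup.mem_inf.2 ⟨(z : T).2,
      Subgroup.mem_centralizer_iff.2 fun y hy => ?_⟩, ?_⟩
    · exact congrArg Subtype.val (Subgroup.mem_center_iff.1 z.2 ⟨y, hy⟩)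
    · have h2 : z ^ 2 = 1 := by rw [← hz]; exact pow_orderOf_eq_one z
      simpa using congrArg (fun w : Subgroup.center T => ((w : T) : G)) h2
  rw [hbot, Subgroup.mem_bot] at hmem
  have h1 : z = 1 := by
    apply Subtype.ext
    apply Subtype.ext
    exact hmem
  rw [h1, orderOf_one] at hz
  norm_num at hz

/-- The symmetric components all have the degree of the first. -/
theorem perm_transport {T : Sylow 2 G} {r : ℕ} {E : Fin r → Subgroup G}
    (k : Comps T E) {n : ℕ} (i₀ i : Fin r)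
    (hq : ∃ _ : ((CV 2 G).subgroupOf (E i₀)).Normal,
      Nonempty (↥(E i₀) ⧸ (CV 2 G).subgroupOf (E i₀) ≃* Perm (Fin n)))
    (hact : Cfsg.ActsAsOddPermModuleOnSection n ⊤ (E i₀) ⁅VV 2 G, E i₀⁆
      (⁅VV 2 G, E i₀⁆ ⊓ Subgroup.centralizer (E i₀ : Set G))) :
    (∃ _ : ((CV 2 G).subgroupOf (E i)).Normal,
      Nonempty (↥(E i) ⧸ (CV 2 G).subgroupOf (E i) ≃* Perm (Fin n))) ∧
    Cfsg.ActsAsOddPermModuleOnSection n ⊤ (E i) ⁅VV 2 G, E i⁆
      (⁅VV 2 G, E i⁆ ⊓ Subgroup.centralizer (E i : Set G)) := by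
  obtain ⟨t, -, htE⟩ := k.conj i₀ i
  set f := (MulAut.conj t).toMonoidHom with hf
  have hfi : Function.Injective f := (MulAut.conj t).injective
  have hVmap : (VV 2 G).map f = VV 2 G := PushRankOne.cj_eq_of_normal t (VV 2 G)
  have hWmap : (⁅VV 2 G, E i₀⁆).map f = ⁅VV 2 G, E i⁆ := by rw [Subgroup.map_commutator, hVmap, htE]
  have hCmap : (CV 2 G).map f = CV 2 G := PushRankOne.cj_eq_of_normal t (CV 2 G)
  obtain ⟨hn, ⟨e₀⟩⟩ := hq
  refine ⟨?_, ?_⟩
  · haveI hn' : ((CV 2 G).subgroupOf (E i)).Normal := inferInstance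
    refine ⟨hn', ⟨(QuotientGroup.congr ((CV 2 G).subgroupOf (E i₀)) ((CV 2 G).subgroupOf (E i))
      (((E i₀).equivMapOfInjective f hfi).trans (MulEquiv.subgroupCongr htE)) ?_).symm.trans e₀⟩⟩
    ext x
    constructor
    · rintro ⟨y, hy, rfl⟩
      show f (y : G) ∈ CV 2 G
      rw [← hCmap]
      exact ⟨_, hy, rfl⟩
    · intro hx
      obtain ⟨y, rfl⟩ := (((E i₀).equivMapOfInjective f hfi).trans (MulEquiv.subgroupCongr htE)).surjective x
      refine ⟨y, ?_, rfl⟩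
      have hx' : f (y : G) ∈ (CV 2 G).map f := hCmap.ge hx
      exact (Subgroup.mem_map_iff_mem hfi).1 hx'
  · have h1 := map_actsAsPerm hfi hact
    rwa [htE, hWmap, map_inf_centralizer hfi, hWmap, htE] at h1

/-- The statement on automorphisms of odd order, given the pushing-up theorem. -/
theorem exists_invariant_of_pushing_up
    (h82 : ∀ T : Sylow 2 G, Cfsg.IsPMinimal 2 G →
      (∀ C : Subgroup G, C ≤ Cfsg.baumannSubgroupOf 2 (T : Subgroup G) → C ≠ ⊥ →
        (C.subgroupOf (Cfsg.baumannSubgroupOf 2 (T : Subgroup G))).Characteristic → ¬ C.Normal) →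
      ¬ (Cfsg.omegaOneCenter 2 (T : Subgroup G)).Normal →
      ∃ 𝓑 : Set (Subgroup G), Cfsg.HasBaumannBlockStructure 2 (T : Subgroup G) 𝓑 ∧
        Cfsg.cStarOf 2 (T : Subgroup G) =
          (Cfsg.cStarOf 2 (T : Subgroup G) ⊓ sSup 𝓑) ⊔ (T : Subgroup G))
    (hirr : ∀ S : Sylow 2 G, ∃! M : Subgroup G, IsCoatom M ∧ (S : Subgroup G) ≤ M)
    (hG : Subgroup.centralizer (Q : Set G) ≤ Q) (S : Sylow 2 G)
    (A : Subgroup (MulAut ↥(S : Subgroup G))) (hA : Odd (Nat.card A)) :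
    ∃ U : Subgroup G, U ≠ ⊥ ∧ U.Normal ∧ U ≤ (S : Subgroup G) ∧
      ∀ a ∈ A, ∀ x : ↥(S : Subgroup G), (x : G) ∈ U → ((a x : ↥(S : Subgroup G)) : G) ∈ U := by
  haveI : Fact (Nat.Prime 2) := ⟨Nat.prime_two⟩
  haveI : Nontrivial G := by
    rcases subsingleton_or_nontrivial G with hs | hn
    · obtain ⟨M, ⟨hM, -⟩, -⟩ := hirr S
      exact absurd (Subsingleton.elim M ⊤) hM.1
    · exact hn
  have hQ : Q ≠ ⊥ := fun h => by
    rw [h, Subgroup.coe_bot] at hG
    have : (⊤ : Subgroup G) ≤ ⊥ := le_trans (fun x _ =>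
      Subgroup.mem_centralizer_iff.2 fun y hy => by rw [Set.mem_singleton_iff.1 hy, one_mul, mul_one]) hG
    exact top_ne_bot (le_bot_iff.1 this)
  by_cases hA1 : ∃ C : Subgroup G, C ≤ (S : Subgroup G) ∧ C ≠ ⊥ ∧
      (C.subgroupOf (S : Subgroup G)).Characteristic ∧ C.Normal
  · obtain ⟨C, hCS, hC, hch, hCn⟩ := hA1
    refine ⟨C, hC, hCn, hCS, fun a _ x hx => ?_⟩
    exact Subgroup.characteristic_iff_map_le.1 hch a ⟨x, hx, rfl⟩
  push Not at hA1
  have hSne : (S : Subgroup G) ≠ ⊥ := fun h =>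
    hQ (le_bot_iff.1 (h ▸ LocalCGT.pCore_le_sylow S))
  have hSn : ¬ (S : Subgroup G).Normal := hA1 _ le_rfl hSne (by rw [Subgroup.subgroupOf_self]; infer_instance)
  have hmin : Cfsg.IsPMinimal 2 G := fun P => ⟨fun hP => hSn (by
    obtain ⟨g, hg⟩ := MulAction.exists_smul_eq G P S
    haveI := hP
    rw [Sylow.smul_eq_of_normal] at hg
    exact hg ▸ hP), hirr P⟩
  have hchar : ∀ C : Subgroup G, C ≤ Cfsg.baumannSubgroupOf 2 (S : Subgroup G) → C ≠ ⊥ →
      (C.subgroupOf (Cfsg.baumannSubgroupOf 2 (S : Subgroup G))).Characteristic → ¬ C.Normal :=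
    fun C hC hne hch => hA1 C (hC.trans (LocalCGT.baumann_le _)) hne (BlockNear.char_of_baumann hC hch)
  have hz : ¬ (Cfsg.omegaOneCenter 2 (S : Subgroup G)).Normal :=
    hA1 _ (LocalCGT.omegaOneCenter_le _) (omegaOneCenter_ne_bot S.2 hSne) (omegaOneCenter_char _)
  obtain ⟨M, c⟩ := exists_ctx hmin hG S hchar hz
  obtain ⟨𝓑, hB, hC⟩ := h82 S hmin hchar hz
  have hQR := core_comm_le hG S hB hC
  have hsup : (S : Subgroup G) ⊔ Cfsg.pResidual 2 G = ⊤ := sylow_sup_pResidual S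
  obtain ⟨r, E, h1, h2, h3, h4, -, h6, h7, h8, h9⟩ :=
    LocalCGT.FixLift.C2.local_css PMinFF.hatThm hmin hG S c.cStarStar_ne_top
  rw [← LocalCGT.FixLift.C2.thompsonSubgroup_eq] at h2 h3
  have k : Comps S E := ⟨h1, h2, h3, h4, h6, h7, h8⟩
  rcases Nat.eq_zero_or_pos r with rfl | hr
  · refine absurd (le_bot_iff.1 ?_) hQ
    refine Q_le_CV.trans (le_trans (le_sup_right.trans h3.ge) ?_)
    exact iSup_le fun i => i.elim0
  obtain ⟨n, hn, ⟨F, _, _, hF, hiso, hact⟩ | ⟨-, hiso, hact⟩⟩ := h9 ⟨0, hr⟩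
  · obtain ⟨ρ, ψ, d⟩ := k.exists_lin ⟨0, hr⟩ hn hF hiso hact
    exact exists_invariant_normal c (gpair_lin d c) d.exact hQR hsup A hA
  · obtain ⟨K, η, ρ, d⟩ := Sym.exists_sys hn E h1 h2 h3 h4 h6 h7 h8
      (fun i => (perm_transport k ⟨0, hr⟩ i hiso hact).1) (fun i => (perm_transport k ⟨0, hr⟩ i hiso hact).2)
    obtain ⟨o, τ, s⟩ := d.exists_shape c
    exact exists_invariant_normal c (gpair_sym s c) (d.exact' c) hQR hsup A hA

end CfsgLib.OddAut
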