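import Mathlib.GroupTheory.OrderOfElement
import Mathlib.GroupTheory.GroupAction.ConjAct
import Mathlib.Algebra.Group.Subgroup.Basic
import Mathlib.Algebra.Field.Basic
import Mathlib.Algebra.CharP.Two
import Mathlib.GroupTheory.Commutator.Basic
import Mathlib.SetTheory.Cardinal.Finite
import Mathlib.GroupTheory.Coset.Card
import Mathlib.GroupTheory.QuotientGroup.Basic
import Mathlib.Algebra.Group.End
import Mathlib.Tactic.Group
import Mathlib.Tactic.Ring

/-!
An automorphism of odd order of a group `S` cannot move a normal elementary abelian subgroup `V`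
off its centralizer, when the pairing between `V` and a normal subgroup `J` containing the images of
`V` is diagonal and the centralizer of `V` is abelian of exponent two modulo a subgroup missing the
nonzero values of the pairing.
-/

set_option autoImplicit false
set_option linter.unusedSectionVars false

namespace CfsgLib.OddAut

open scoped commutatorElement

variable {S : Type*} [Group S] [Finite S] {F : Type*} [Field F] [Finite F] {ι : Type*} [Finite ι]

/-- The pairing of `V` with `J`. -/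
structure PairData (V J Zc : Subgroup S) (α γ : S → ι → F) : Prop where
  sq : ∀ v ∈ V, v * v = 1
  comm : ∀ v ∈ V, ∀ w ∈ V, Commute v w
  normal : V.Normal
  α_mul : ∀ x ∈ J, ∀ y ∈ J, α (x * y) = α x + α y
  α_ker : ∀ x ∈ J, α x = 0 ↔ x ∈ Subgroup.centralizer (V : Set S)
  γ_mul : ∀ v ∈ V, ∀ w ∈ V, γ (v * w) = γ v + γ w
  γ_surj : ∀ f : ι → F, ∃ v ∈ V, γ v = f
  pair : ∀ x ∈ J, ∀ v ∈ V, γ v = 0 → Commute x v
  detect : ∀ x ∈ J, ∀ v ∈ V, ⁅x, v⁆ ∈ Zc → ∀ k, α x k * γ v k = 0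
  spread : ∀ X : Subgroup S, X.Normal → X ≤ J →
    (∃ x ∈ X, x ∉ Subgroup.centralizer (V : Set S)) → ∀ k, ∃ x ∈ X, α x k ≠ 0
  squares : ∀ q ∈ Subgroup.centralizer (V : Set S), q * q ∈ Zc
  comms : ∀ q ∈ Subgroup.centralizer (V : Set S), ∀ r ∈ Subgroup.centralizer (V : Set S), ⁅q, r⁆ ∈ Zc

/-- The image of `V` under an automorphism. -/
def tr (V : Subgroup S) (b : MulAut S) : Subgroup S := V.map b.toMonoidHom

/-- The two images do not commute. -/
def Adj (V : Subgroup S) (b c : MulAut S) : Prop :=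
  ∃ x ∈ tr V b, ∃ y ∈ tr V c, ¬ Commute x y

theorem mem_tr {V : Subgroup S} {b : MulAut S} {x : S} : x ∈ tr V b ↔ b⁻¹ x ∈ V := by
  constructor
  · rintro ⟨v, hv, rfl⟩
    rw [show b⁻¹ (b.toMonoidHom v) = v from b.symm_apply_apply v]
    exact hv
  · intro h
    exact ⟨_, h, b.apply_symm_apply x⟩

theorem map_mem_tr {V : Subgroup S} (b c : MulAut S) {x : S} (hx : x ∈ tr V c) :
    b x ∈ tr V (b * c) := by
  rw [mem_tr] at hx ⊢
  rwa [mul_inv_rev, MulAut.mul_apply, MulAut.inv_apply_self]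

theorem tr_one (V : Subgroup S) : tr V 1 = V := by
  ext x; rw [mem_tr, inv_one, MulAut.one_apply]

theorem adj_symm {V : Subgroup S} {b c : MulAut S} (h : Adj V b c) : Adj V c b := by
  obtain ⟨x, hx, y, hy, h⟩ := h
  exact ⟨y, hy, x, hx, fun e => h e.symm⟩

theorem adj_mul {V : Subgroup S} (g : MulAut S) {b c : MulAut S} (h : Adj V b c) :
    Adj V (g * b) (g * c) := by
  obtain ⟨x, hx, y, hy, h⟩ := h
  refine ⟨g x, map_mem_tr g b hx, g y, map_mem_tr g c hy, fun e => h ?_⟩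
  apply g.injective
  rw [map_mul, map_mul]
  exact e.eq

theorem adj_mul_iff {V : Subgroup S} (g b c : MulAut S) :
    Adj V (g * b) (g * c) ↔ Adj V b c :=
  ⟨fun h => by simpa using adj_mul g⁻¹ h, adj_mul g⟩

theorem commute_of_not_adj {V : Subgroup S} {b c : MulAut S} (h : ¬ Adj V b c) {x y : S}
    (hx : x ∈ tr V b) (hy : y ∈ tr V c) : Commute x y := by
  by_contra hne
  exact h ⟨x, hx, y, hy, hne⟩

namespace PairData

variable {V J Zc : Subgroup S} {α γ : S → ι → F} (d : PairData V J Zc α γ)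
include d

theorem α_one : α 1 = 0 := (d.α_ker 1 (one_mem _)).2 (one_mem _)

theorem γ_one : γ 1 = 0 := by
  have h := d.γ_mul 1 (one_mem _) 1 (one_mem _)
  rw [mul_one] at h
  exact add_eq_left.1 h.symm

theorem normal_tr (b : MulAut S) : (tr V b).Normal :=
  d.normal.map _ b.surjective

theorem sq_tr {b : MulAut S} {x : S} (hx : x ∈ tr V b) : x * x = 1 := by
  obtain ⟨v, hv, rfl⟩ := hx
  rw [← map_mul, d.sq v hv, map_one]

theorem comm_tr {b : MulAut S} {x y : S} (hx : x ∈ tr V b) (hy : y ∈ tr V b) : Commute x y := by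
  obtain ⟨v, hv, rfl⟩ := hx
  obtain ⟨w, hw, rfl⟩ := hy
  exact (d.comm v hv w hw).map b.toMonoidHom

variable (A : Subgroup (MulAut S)) (hAJ : ∀ b ∈ A, tr V b ≤ J)
include hAJ

/-- The elements of `V` commuting with a neighbour are those with zero coordinates. -/
theorem fix_iff {b : MulAut S} (hb : b ∈ A) (h : Adj V 1 b) {v : S} (hv : v ∈ V) :
    (∀ x ∈ tr V b, Commute x v) ↔ γ v = 0 := by
  constructor
  · intro hcom
    funext k
    obtain ⟨v₀, hv₀, x₀, hx₀, hne⟩ := h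
    rw [tr_one] at hv₀
    obtain ⟨x, hx, hxk⟩ := d.spread _ (d.normal_tr b) (hAJ b hb)
      ⟨x₀, hx₀, fun hc => hne (Subgroup.mem_centralizer_iff.1 hc v₀ hv₀)⟩ k
    have h0 := d.detect x (hAJ b hb hx) v hv
      (by rw [commutatorElement_eq_one_iff_commute.2 (hcom x hx)]; exact one_mem _) k
    exact (mul_eq_zero.1 h0).resolve_left hxk
  · intro h0 x hx
    exact d.pair x (hAJ b hb hx) v hv h0

/-- A neighbour induces every value. -/
theorem surj {b : MulAut S} (hb : b ∈ A) (h : Adj V 1 b) (f : ι → F) :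
    ∃ x ∈ tr V b, α x = f := by
  have hinv : Adj V 1 b⁻¹ := by
    refine adj_symm ?_
    have := adj_mul b⁻¹ h
    rwa [mul_one, inv_mul_cancel] at this
  let αh : ↥(tr V b) →* Multiplicative (ι → F) :=
    MonoidHom.mk' (fun x => Multiplicative.ofAdd (α (x : S))) fun x y => by
      rw [← ofAdd_add, Subgroup.coe_mul, d.α_mul _ (hAJ b hb x.2) _ (hAJ b hb y.2)]
  let γh : ↥V →* Multiplicative (ι → F) :=
    MonoidHom.mk' (fun v => Multiplicative.ofAdd (γ (v : S))) fun x y => by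
      rw [← ofAdd_add, Subgroup.coe_mul, d.γ_mul _ x.2 _ y.2]
  have hγ : γh.range = ⊤ := MonoidHom.range_eq_top.2 fun g => by
    obtain ⟨v, hv, e⟩ := d.γ_surj (Multiplicative.toAdd g)
    exact ⟨⟨v, hv⟩, congrArg Multiplicative.ofAdd e⟩
  let e : ↥V ≃* ↥(tr V b) := V.equivMapOfInjective _ b.injective
  have he : ∀ v : ↥V, ((e v : ↥(tr V b)) : S) = b (v : S) := fun v => rfl
  have hker : αh.ker = γh.ker.map e.toMonoidHom := by
    ext x
    obtain ⟨v, rfl⟩ := e.surjective x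
    rw [show e v ∈ γh.ker.map e.toMonoidHom ↔ v ∈ γh.ker from Subgroup.mem_map_iff_mem e.injective,
      MonoidHom.mem_ker, MonoidHom.mem_ker]
    show Multiplicative.ofAdd (α _) = 1 ↔ Multiplicative.ofAdd (γ _) = 1
    rw [ofAdd_eq_one, ofAdd_eq_one, d.α_ker _ (hAJ b hb (e v).2),
      ← d.fix_iff A hAJ (inv_mem hb) hinv v.2, Subgroup.mem_centralizer_iff, he]
    constructor
    · intro hc x hx
      have hx' : b x ∈ V := by
        have := map_mem_tr b _ hx
        rwa [mul_inv_cancel, tr_one] at this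
      apply b.injective
      rw [map_mul, map_mul]
      exact hc _ hx'
    · intro hc w hw
      have hw' : b⁻¹ w ∈ tr V b⁻¹ := by
        have := map_mem_tr b⁻¹ 1 (x := w) (by rwa [tr_one])
        rwa [mul_one] at this
      have := congrArg b (hc _ hw').eq
      rw [map_mul, map_mul, MulAut.apply_inv_self] at this
      exact this
  haveI : Finite (Multiplicative (ι → F)) := inferInstanceAs (Finite (ι → F))
  have h1 := Subgroup.card_eq_card_quotient_mul_card_subgroup αh.ker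
  have h2 := Subgroup.card_eq_card_quotient_mul_card_subgroup γh.ker
  rw [Nat.card_congr (QuotientGroup.quotientKerEquivRange αh).toEquiv, hker,
    Nat.card_congr (Subgroup.equivMapOfInjective γh.ker e.toMonoidHom e.injective).toEquiv.symm,
    ← Nat.card_congr e.toEquiv] at h1
  rw [Nat.card_congr (QuotientGroup.quotientKerEquivRange γh).toEquiv, hγ, Subgroup.card_top] at h2
  have htop : αh.range = ⊤ :=
    Subgroup.eq_top_of_card_eq _ (Nat.eq_of_mul_eq_mul_right Nat.card_pos (h1.symm.trans h2))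
  obtain ⟨x, hx⟩ := MonoidHom.range_eq_top.1 htop (Multiplicative.ofAdd f)
  exact ⟨x, x.2, Multiplicative.ofAdd.injective hx⟩

/-- Two neighbours induce the same values, so differ by elements centralizing `V`. -/
theorem exists_same {b c : MulAut S} (hb : b ∈ A) (h1 : Adj V 1 b) (hc : c ∈ A) (h2 : Adj V 1 c)
    {y : S} (hy : y ∈ tr V c) :
    ∃ x ∈ tr V b, x * y ∈ Subgroup.centralizer (V : Set S) ∧ α x = α y := by
  obtain ⟨x, hx, e⟩ := d.surj A hAJ hb h1 (α y)
  refine ⟨x, hx, (d.α_ker _ (mul_mem (hAJ b hb hx) (hAJ c hc hy))).1 ?_, e⟩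
  rw [d.α_mul x (hAJ b hb hx) y (hAJ c hc hy), e]
  have : α y + α y = α (y * y) := (d.α_mul y (hAJ c hc hy) y (hAJ c hc hy)).symm
  rw [this, d.sq_tr hy, d.α_one]

/-- Seen from a neighbour `X`, an element of another neighbour of `X` acts as an element of `V`. -/
theorem exists_act {b c : MulAut S} (hb : b ∈ A) (h1 : Adj V 1 b) (hc : c ∈ A) (h2 : Adj V b c)
    {z : S} (hz : z ∈ tr V c) :
    ∃ v ∈ V, v * z ∈ Subgroup.centralizer (tr V b : Set S) := by
  have g1 : Adj V 1 b⁻¹ := by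
    refine adj_symm ?_
    have := adj_mul b⁻¹ h1
    rwa [mul_one, inv_mul_cancel] at this
  have g2 : Adj V 1 (b⁻¹ * c) := by
    have := adj_mul b⁻¹ h2
    rwa [inv_mul_cancel] at this
  obtain ⟨u, hu, huc, -⟩ := d.exists_same A hAJ (inv_mem hb) g1 (mul_mem (inv_mem hb) hc) g2
    (map_mem_tr b⁻¹ c hz)
  have hu' : b u ∈ V := by
    have := map_mem_tr b _ hu
    rwa [mul_inv_cancel, tr_one] at this
  refine ⟨b u, hu', Subgroup.mem_centralizer_iff.2 ?_⟩
  rintro _ ⟨w, hw, rfl⟩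
  have e := congrArg b (Subgroup.mem_centralizer_iff.1 huc w hw)
  rw [map_mul, map_mul, map_mul, MulAut.apply_inv_self] at e
  show b w * (b u * z) = b u * z * b w
  rw [e, map_mul, MulAut.apply_inv_self]

/-- Two neighbours of `V` commute. -/
theorem triangle_free {b c : MulAut S} (hb : b ∈ A) (h1 : Adj V 1 b) (hc : c ∈ A)
    (h2 : Adj V 1 c) : ¬ Adj V b c := by
  intro h3
  have key : ∀ y ∈ tr V c, ∀ v ∈ V, v * y ∈ Subgroup.centralizer (tr V b : Set S) →
      ∀ k, α y k * γ v k = 0 := by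
    intro y hy v hv hvc k
    obtain ⟨x, hx, hxy, hα⟩ := d.exists_same A hAJ hb h1 hc h2 hy
    have hxx := d.sq_tr hx
    have hyy := d.sq_tr hy
    have hvy : Commute x (v * y) := Subgroup.mem_centralizer_iff.1 hvc x hx
    have e1 : (x * y) * (x * y) = ⁅x, y⁆ := by
      rw [commutatorElement_def, inv_eq_of_mul_eq_one_right hxx, inv_eq_of_mul_eq_one_right hyy]
      group
    have hxv : ⁅x, v⁆ ∈ tr V b := by
      rw [commutatorElement_def, mul_assoc x v, mul_assoc]
      exact mul_mem hx (by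
        simpa [mul_assoc] using (d.normal_tr b).conj_mem _ (inv_mem hx) v)
    have hcomb : Commute ⁅x, v⁆ (v * y) := Subgroup.mem_centralizer_iff.1 hvc _ hxv
    have e2 : ⁅x, y⁆ = ⁅x, v⁆ := by
      have hxvv : Commute ⁅x, v⁆ v := by
        have h' : ⁅x, v⁆ ∈ V := by
          rw [commutatorElement_def]
          exact mul_mem (d.normal.conj_mem v hv x) (inv_mem hv)
        exact d.comm _ h' v hv
      have hy' : y = v * (v * y) := by rw [← mul_assoc, d.sq v hv, one_mul]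
      conv_lhs => rw [hy', commutatorElement_def]
      calc x * (v * (v * y)) * x⁻¹ * (v * (v * y))⁻¹
          = (x * v * x⁻¹) * (x * (v * y) * x⁻¹) * (v * y)⁻¹ * v⁻¹ := by group
        _ = (x * v * x⁻¹) * (v * y) * (v * y)⁻¹ * v⁻¹ := by rw [hvy.eq, mul_inv_cancel_right]
        _ = ⁅x, v⁆ := by rw [commutatorElement_def]; group
    have hZ : ⁅x, v⁆ ∈ Zc := by
      rw [← e2, ← e1]; exact d.squares _ hxy
    rw [← hα]
    exact d.detect x (hAJ b hb hx) v hv hZ k
  obtain ⟨x₀, hx₀, y₀, hy₀, hne⟩ := h3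
  have h3' : Adj V b c := ⟨x₀, hx₀, y₀, hy₀, hne⟩
  obtain ⟨v₀, hv₀, hv₀c⟩ := d.exists_act A hAJ hb h1 hc h3' hy₀
  have hγ : γ v₀ = 0 := by
    funext k
    by_cases hk : α y₀ k = 0
    · obtain ⟨s, hs, hsk⟩ : ∃ s ∈ tr V c, α s k ≠ 0 := by
        obtain ⟨s, hs, e⟩ := d.surj A hAJ hc h2 (fun _ => 1)
        exact ⟨s, hs, by rw [e]; exact one_ne_zero⟩
      obtain ⟨w, hw, hwc⟩ := d.exists_act A hAJ hb h1 hc h3' hs
      have e1 : γ w k = 0 := (mul_eq_zero.1 (key s hs w hw hwc k)).resolve_left hsk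
      have hmem : (v₀ * w) * (y₀ * s) ∈ Subgroup.centralizer (tr V b : Set S) := by
        refine Subgroup.mem_centralizer_iff.2 fun x hx => ?_
        have hx' : w * x * w⁻¹ ∈ tr V b := (d.normal_tr b).conj_mem _ hx w
        have a1 : s * x * s⁻¹ = w * x * w⁻¹ := by
          have e := (Subgroup.mem_centralizer_iff.1 hwc x hx).symm
          calc s * x * s⁻¹ = w⁻¹ * (w * s * x) * (w * s)⁻¹ * w := by group
            _ = w⁻¹ * x * w := by rw [e, mul_assoc (w⁻¹) (x * (w * s)), mul_inv_cancel_right]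
            _ = w * x * w⁻¹ := by rw [inv_eq_of_mul_eq_one_right (d.sq w hw)]
        have a2 : y₀ * (w * x * w⁻¹) * y₀⁻¹ = v₀ * (w * x * w⁻¹) * v₀⁻¹ := by
          have e := (Subgroup.mem_centralizer_iff.1 hv₀c _ hx').symm
          calc y₀ * (w * x * w⁻¹) * y₀⁻¹
              = v₀⁻¹ * (v₀ * y₀ * (w * x * w⁻¹)) * (v₀ * y₀)⁻¹ * v₀ := by group
            _ = v₀⁻¹ * (w * x * w⁻¹) * v₀ := by
                rw [e, mul_assoc (v₀⁻¹) (w * x * w⁻¹ * (v₀ * y₀)), mul_inv_cancel_right]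
            _ = v₀ * (w * x * w⁻¹) * v₀⁻¹ := by rw [inv_eq_of_mul_eq_one_right (d.sq v₀ hv₀)]
        have hvw : v₀ * w * (v₀ * w) = 1 := d.sq _ (mul_mem hv₀ hw)
        refine eq_mul_inv_iff_mul_eq.1 ?_
        calc x = v₀ * w * (v₀ * w) * x * (v₀ * w * (v₀ * w))⁻¹ := by
              rw [hvw, inv_one, mul_one, one_mul]
          _ = v₀ * w * (v₀ * (w * x * w⁻¹) * v₀⁻¹) * (v₀ * w)⁻¹ := by group
          _ = v₀ * w * (y₀ * (s * x * s⁻¹) * y₀⁻¹) * (v₀ * w)⁻¹ := by rw [a1, a2]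
          _ = v₀ * w * (y₀ * s) * x * (v₀ * w * (y₀ * s))⁻¹ := by group
      have hsum : α (y₀ * s) k ≠ 0 := by
        rw [d.α_mul _ (hAJ c hc hy₀) _ (hAJ c hc hs), Pi.add_apply, hk, zero_add]; exact hsk
      have e2 := (mul_eq_zero.1 (key _ (mul_mem hy₀ hs) _ (mul_mem hv₀ hw) hmem k)).resolve_left hsum
      rwa [d.γ_mul _ hv₀ _ hw, Pi.add_apply, e1, add_zero] at e2
    · exact (mul_eq_zero.1 (key y₀ hy₀ v₀ hv₀ hv₀c k)).resolve_left hk
  refine hne ?_
  have hv₀x : Commute x₀ v₀ := ((d.fix_iff A hAJ hb h1 hv₀).2 hγ x₀ hx₀)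
  have := hv₀x.inv_right.mul_right (Subgroup.mem_centralizer_iff.1 hv₀c x₀ hx₀ : Commute x₀ (v₀ * y₀))
  rwa [inv_mul_cancel_left] at this

/-- Two neighbours of `V` have the same neighbours. -/
theorem adj_of_adj {b c e : MulAut S} (hb : b ∈ A) (h1 : Adj V 1 b) (hc : c ∈ A) (h2 : Adj V 1 c)
    (he : e ∈ A) (h3 : Adj V b e) : Adj V c e := by
  by_contra hne
  have hb1 : Adj V 1 b⁻¹ := by
    refine adj_symm ?_
    have := adj_mul b⁻¹ h1
    rwa [mul_one, inv_mul_cancel] at this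
  have hb2 : Adj V 1 (b⁻¹ * e) := by
    have := adj_mul b⁻¹ h3
    rwa [inv_mul_cancel] at this
  have hVe : ¬ Adj V 1 e := fun h => by
    refine d.triangle_free A hAJ (inv_mem hb) hb1 (mul_mem (inv_mem hb) he) hb2 ?_
    have := adj_mul b⁻¹ h
    rwa [mul_one] at this
  obtain ⟨x₀, hx₀, z₀, hz₀, hne'⟩ := h3
  obtain ⟨v, hv, hvc⟩ := d.exists_act A hAJ hb h1 he ⟨x₀, hx₀, z₀, hz₀, hne'⟩ hz₀
  have hzQ : z₀ ∈ Subgroup.centralizer (V : Set S) := Subgroup.mem_centralizer_iff.2 fun u hu =>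
    (commute_of_not_adj hVe (by rwa [tr_one]) hz₀).eq
  have hγ : γ v = 0 := by
    funext k
    obtain ⟨x, hx, hxk⟩ : ∃ x ∈ tr V b, α x k ≠ 0 := by
      obtain ⟨x, hx, e'⟩ := d.surj A hAJ hb h1 (fun _ => 1)
      exact ⟨x, hx, by rw [e']; exact one_ne_zero⟩
    obtain ⟨y, hy, hyQ, -⟩ := d.exists_same A hAJ hc h2 hb h1 hx
    have hxy : Commute x (v * z₀) := Subgroup.mem_centralizer_iff.1 hvc x hx
    have hyz : Commute y z₀ := commute_of_not_adj hne hy hz₀
    have hvv := d.sq v hv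
    have e1 : ⁅x, z₀⁆ = ⁅y * x, z₀⁆ := by
      have hzx : Commute y (x * z₀ * x⁻¹) :=
        commute_of_not_adj hne hy ((d.normal_tr e).conj_mem _ hz₀ x)
      rw [commutatorElement_def, commutatorElement_def]
      calc x * z₀ * x⁻¹ * z₀⁻¹ = x * z₀ * x⁻¹ * y * y⁻¹ * z₀⁻¹ := by group
        _ = y * (x * z₀ * x⁻¹) * y⁻¹ * z₀⁻¹ := by rw [hzx.eq]
        _ = y * x * z₀ * (y * x)⁻¹ * z₀⁻¹ := by group
    have e2 : ⁅x, z₀⁆ = ⁅x, v⁆ := by
      rw [commutatorElement_def, commutatorElement_def]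
      calc x * z₀ * x⁻¹ * z₀⁻¹
          = x * v⁻¹ * x⁻¹ * (x * (v * z₀) * x⁻¹) * (v * z₀)⁻¹ * v := by group
        _ = x * v⁻¹ * x⁻¹ * (v * z₀) * (v * z₀)⁻¹ * v := by rw [hxy.eq, mul_inv_cancel_right]
        _ = x * v * x⁻¹ * v⁻¹ := by rw [inv_eq_of_mul_eq_one_right hvv]; group
    have hZ : ⁅x, v⁆ ∈ Zc := by
      rw [← e2, e1]; exact d.comms _ hyQ _ hzQ
    exact (mul_eq_zero.1 (d.detect x (hAJ b hb hx) v hv hZ k)).resolve_left hxk
  have hv₀x : Commute x₀ v := (d.fix_iff A hAJ hb h1 hv).2 hγ x₀ hx₀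
  have := hv₀x.inv_right.mul_right (Subgroup.mem_centralizer_iff.1 hvc x₀ hx₀ : Commute x₀ (v * z₀))
  rw [inv_mul_cancel_left] at this
  exact hne' this

/-- An automorphism of odd order fixes the side. -/
theorem not_adj {a : MulAut S} (ha : a ∈ A) (hodd : Odd (orderOf a)) : ¬ Adj V 1 a := by
  intro h
  have hn1 : Adj V 1 a⁻¹ := by
    refine adj_symm ?_
    have := adj_mul a⁻¹ h
    rwa [mul_one, inv_mul_cancel] at this
  have hstep : ∀ e ∈ A, Adj V 1 e → Adj V (a ^ 2) e := by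
    intro e he h1
    have g : Adj V a⁻¹ (a⁻¹ * e) := by
      have := adj_mul a⁻¹ h1
      rwa [mul_one] at this
    have h' := d.adj_of_adj A hAJ (inv_mem ha) hn1 ha h (mul_mem (inv_mem ha) he) g
    have := adj_mul a h'
    rwa [← pow_two, mul_inv_cancel_left] at this
  have hiter : ∀ j : ℕ, ∀ e ∈ A, Adj V 1 e → Adj V ((a ^ 2) ^ j) e := by
    intro j
    induction j with
    | zero => intro e _ h1; rwa [pow_zero]
    | succ j ih =>
      intro e he h1
      have hp : (a ^ 2) ^ j ∈ A := pow_mem (pow_mem ha 2) j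
      have h' := ih e he h1
      have g := adj_mul ((a ^ 2) ^ j)⁻¹ h'
      rw [inv_mul_cancel] at g
      have h'' := adj_mul ((a ^ 2) ^ j) (hstep _ (mul_mem (inv_mem hp) he) g)
      rwa [mul_inv_cancel_left, ← pow_succ] at h''
  obtain ⟨k, hk⟩ := hodd
  have e : (a ^ 2) ^ (k + 1) = a := by
    rw [← pow_mul, show 2 * (k + 1) = 2 * k + 1 + 1 by ring, ← hk, pow_succ, pow_orderOf_eq_one,
      one_mul]
  have := hiter (k + 1) a ha h
  rw [e] at this
  obtain ⟨x, hx, y, hy, hne⟩ := this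
  exact hne (d.comm_tr hx hy)

end PairData

end CfsgLib.OddAut
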