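import Cfsg.Agent.Lib.OddAut.Pairing

/-!
A group of automorphisms of odd order of a Sylow two-subgroup of a two-minimal group with blocks
leaves invariant a nontrivial normal subgroup: the product of the images of the module.
-/

set_option autoImplicit false
set_option linter.unusedSectionVars false
set_option linter.style.haveILetI false

namespace CfsgLib.OddAut

open CfsgLib.Transfer CfsgLib.PushMin
open scoped commutatorElement

variable {G : Type*} [Group G] [Finite G]

local notation "Q" => Cfsg.pCore 2 G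

theorem map_thompsonJ_aut (T : Sylow 2 G) (b : MulAut ↥(T : Subgroup G)) :
    ((thompsonJ 2 (T : Subgroup G)).subgroupOf (T : Subgroup G)).map b.toMonoidHom =
      (thompsonJ 2 (T : Subgroup G)).subgroupOf (T : Subgroup G) := by
  have hJ : thompsonJ 2 (T : Subgroup G) =
      (thompsonJ 2 (⊤ : Subgroup ↥(T : Subgroup G))).map (T : Subgroup G).subtype := by
    rw [map_thompsonJ 2 (T : Subgroup G).subtype (T : Subgroup G).subtype_injective.injOn,
      ← MonoidHom.range_eq_map, Subgroup.range_subtype]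
  rw [hJ, Subgroup.subgroupOf,
    Subgroup.comap_map_eq_self_of_injective (T : Subgroup G).subtype_injective,
    map_thompsonJ 2 b.toMonoidHom b.injective.injOn,
    Subgroup.map_top_of_surjective b.toMonoidHom b.surjective]

/-- An automorphism group of odd order leaves a nontrivial normal subgroup invariant. -/
theorem exists_invariant_normal {F : Type*} [Field F] [Finite F] {ι : Type*} [Finite ι]
    {T : Sylow 2 G} {M : Subgroup G} (c : Ctx T M) {α γ : G → ι → F} (g : GPair T α γ)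
    (hx : Exact T) (hQR : ⁅Q, Cfsg.pResidual 2 G⁆ ≤ VV 2 G)
    (hRsup : (T : Subgroup G) ⊔ Cfsg.pResidual 2 G = ⊤)
    (A : Subgroup (MulAut ↥(T : Subgroup G))) (hA : Odd (Nat.card A)) :
    ∃ U : Subgroup G, U ≠ ⊥ ∧ U.Normal ∧ U ≤ (T : Subgroup G) ∧
      ∀ a ∈ A, ∀ x : ↥(T : Subgroup G), (x : G) ∈ U → ((a x : ↥(T : Subgroup G)) : G) ∈ U := by
  haveI : Fact (Nat.Prime 2) := ⟨Nat.prime_two⟩
  set S := ↥(T : Subgroup G)
  have hVT : VV 2 G ≤ (T : Subgroup G) := c.VV_le_T
  set Vs : Subgroup S := (VV 2 G).subgroupOf (T : Subgroup G) with hVs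
  set Js : Subgroup S := (thompsonJ 2 (T : Subgroup G)).subgroupOf (T : Subgroup G) with hJs
  set R := Cfsg.pResidual 2 G with hR
  set Zs : Subgroup S := (Subgroup.centralizer (R : Set G)).subgroupOf (T : Subgroup G)
  have hcent : ∀ x : S, x ∈ Subgroup.centralizer (Vs : Set S) ↔ (x : G) ∈ CV 2 G := by
    intro x
    constructor
    · intro h
      refine Subgroup.mem_centralizer_iff.2 fun v hv => ?_
      exact congrArg Subtype.val (Subgroup.mem_centralizer_iff.1 h ⟨v, hVT hv⟩ hv)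
    · intro h
      exact Subgroup.mem_centralizer_iff.2 fun v hv =>
        Subtype.ext (Subgroup.mem_centralizer_iff.1 h (v : G) hv)
  have hQ : ∀ x : S, (x : G) ∈ CV 2 G → (x : G) ∈ Q := fun x hx' => by
    rw [← c.CV_inf_T]; exact ⟨hx', x.2⟩
  obtain ⟨hsq, hcm⟩ := core_sq (R := R) hQR
  have d : PairData Vs Js Zs (fun x : S => α (x : G)) (fun x : S => γ (x : G)) := by
    refine ⟨fun v hv => Subtype.ext ?_, fun v hv w hw => Subtype.ext ?_, ?_,
      fun x hx' y hy => g.α_mul x hx' y hy, fun x hx' => (g.α_ker x hx').trans (hcent x).symm,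
      fun v hv w hw => g.γ_mul v hv w hw, fun f => ?_, fun x hxJ v hv h => Subtype.ext ?_,
      fun x hx' v hv h => g.detect x hx' v hv h, fun X hXn hXJ hex k => ?_,
      fun q hq => hsq q (hQ q ((hcent q).1 hq)),
      fun q hq r hr => hcm q (hQ q ((hcent q).1 hq)) r (hQ r ((hcent r).1 hr))⟩
    · show (v : G) * v = 1
      rw [← pow_two]; exact (isAbExp_VV (G := G) (p := 2)).2 (v : G) hv
    · show (v : G) * w = w * v
      have e := (isAbExp_VV (G := G) (p := 2)).1.is_comm.comm ⟨(v : G), hv⟩ ⟨(w : G), hw⟩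
      exact Subtype.ext_iff.1 e
    · exact (VV_normal (G := G) (p := 2)).subgroupOf _
    · obtain ⟨v, hv, e⟩ := g.γ_surj f
      exact ⟨⟨v, hVT hv⟩, hv, e⟩
    · have hvY := g.pair v hv h
      have hc : (v : G) ∈ Subgroup.centralizer (thompsonJ 2 (T : Subgroup G) : Set G) := by
        have h' : (v : G) ∈ VV 2 G ⊓ YY 2 (T : Subgroup G) := ⟨hv, hvY⟩
        rw [c.VV_inf_YY] at h'
        exact h'.2
      exact Subgroup.mem_centralizer_iff.1 hc x hxJ
    · obtain ⟨x, hxX, hxc⟩ := hex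
      have hle : X.map (T : Subgroup G).subtype ≤ thompsonJ 2 (T : Subgroup G) := by
        rintro _ ⟨z, hz, rfl⟩; exact hXJ hz
      have hnorm : (T : Subgroup G) ≤
          Subgroup.normalizer (X.map (T : Subgroup G).subtype : Set G) := by
        refine Subgroup.le_normalizer_iff.2 fun t ht k hk => ?_
        obtain ⟨z, hz, rfl⟩ := hk
        exact ⟨_, hXn.conj_mem z hz ⟨t, ht⟩, rfl⟩
      obtain ⟨y, hy, hyk⟩ := g.spread (X.map (T : Subgroup G).subtype) hle hnorm
        ⟨(x : G), ⟨x, hxX, rfl⟩, fun h => hxc ((hcent x).2 h)⟩ k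
      obtain ⟨z, hz, rfl⟩ := hy
      exact ⟨z, hz, hyk⟩
  have hVJ : Vs ≤ Js := by
    obtain ⟨A₀, hA₀⟩ := thompsonJ_nonempty 2 (T : Subgroup G)
    intro v hv
    exact (show _ ≤ thompsonJ 2 (T : Subgroup G) from le_sSup (c.sup_mem_maxAbExp hx hA₀).1)
      (Subgroup.mem_sup_left hv)
  have hAJ : ∀ b ∈ A, tr Vs b ≤ Js := fun b _ =>
    (Subgroup.map_mono hVJ).trans (map_thompsonJ_aut T b).le
  have hcomm : ∀ b ∈ A, tr Vs b ≤ Subgroup.centralizer (Vs : Set S) := by
    intro b hb x hx'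
    have hodd : Odd (orderOf b) := by
      refine Odd.of_dvd_nat hA ?_
      rw [← Subgroup.orderOf_mk b hb]
      exact orderOf_dvd_natCard _
    refine Subgroup.mem_centralizer_iff.2 fun v hv => ?_
    exact (commute_of_not_adj (d.not_adj A hAJ hb hodd) (by rwa [tr_one]) hx').eq
  set Us : Subgroup S := ⨆ b ∈ A, tr Vs b
  have hUQ : Us.map (T : Subgroup G).subtype ≤ Q := by
    rw [Subgroup.map_le_iff_le_comap]
    exact iSup₂_le fun b hb x hx' => hQ x ((hcent x).1 (hcomm b hb hx'))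
  set U := Us.map (T : Subgroup G).subtype
  have hVU : VV 2 G ≤ U := fun v hv => by
    refine ⟨⟨v, hVT hv⟩, ?_, rfl⟩
    exact Subgroup.mem_iSup_of_mem 1 (Subgroup.mem_iSup_of_mem (one_mem A) (by rw [tr_one]; exact hv))
  have hTn : (T : Subgroup G) ≤ Subgroup.normalizer (U : Set G) := by
    refine Subgroup.le_normalizer_iff.2 fun t ht y hy => ?_
    obtain ⟨z, hz, rfl⟩ := hy
    have hle : Us.map (MulAut.conj (⟨t, ht⟩ : S)).toMonoidHom ≤ Us := by
      rw [Subgroup.map_le_iff_le_comap]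
      refine iSup₂_le fun b hb x hx' => ?_
      exact Subgroup.mem_iSup_of_mem b (Subgroup.mem_iSup_of_mem hb
        ((d.normal_tr b).conj_mem x hx' ⟨t, ht⟩))
    exact ⟨_, hle ⟨z, hz, rfl⟩, rfl⟩
  have hRn : R ≤ Subgroup.normalizer (U : Set G) := by
    refine Subgroup.le_normalizer_iff.2 fun l hl y hy => ?_
    have h1 := hQR (Subgroup.commutator_mem_commutator (hUQ hy) hl)
    rw [show l * y * l⁻¹ = ⁅y, l⁆⁻¹ * y by rw [commutatorElement_def]; group]
    exact mul_mem (inv_mem (hVU h1)) hy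
  refine ⟨U, ?_, Subgroup.normalizer_eq_top_iff.1 (top_le_iff.1 (hRsup.ge.trans (sup_le hTn hRn))),
    Subgroup.map_subtype_le _, ?_⟩
  · intro hbot
    have hVbot : VV 2 G = ⊥ := le_bot_iff.1 (hVU.trans hbot.le)
    refine c.coatom.1 (top_le_iff.1 (le_trans ?_ c.CV_le))
    intro x _
    show x ∈ Subgroup.centralizer (VV 2 G : Set G)
    rw [hVbot]
    exact Subgroup.mem_centralizer_iff.2 fun y hy => by rw [Subgroup.mem_bot.1 hy, one_mul, mul_one]
  · intro a ha x hx'
    obtain ⟨z, hz, e⟩ := hx'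
    obtain rfl : z = x := Subtype.ext e
    have hle : Us.map a.toMonoidHom ≤ Us := by
      rw [Subgroup.map_le_iff_le_comap]
      refine iSup₂_le fun b hb y hy => ?_
      exact Subgroup.mem_iSup_of_mem (a * b) (Subgroup.mem_iSup_of_mem (mul_mem ha hb)
        (map_mem_tr a b hy))
    exact ⟨a z, hle ⟨z, hz, rfl⟩, rfl⟩

end CfsgLib.OddAut
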