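import Cfsg.Agent.Lib.OddAut.Common
import Cfsg.Agent.Lib.PushMin.Lin
import Cfsg.Agent.Lib.PushMin.SymJ

/-!
The diagonal pairing between the module and the Thompson subgroup in the linear and in the symmetric
case.
-/

set_option autoImplicit false
set_option linter.unusedSectionVars false
set_option linter.style.haveILetI false

namespace CfsgLib.OddAut

open CfsgLib.Transfer CfsgLib.PushMin CfsgLib.SL2 CfsgLib.SL2Module Equiv
open scoped commutatorElement MatrixGroups Pointwise

variable {G : Type*} [Group G] [Finite G]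

/-- The pairing, in the group. -/
structure GPair {F : Type*} [Field F] {ι : Type*} (T : Sylow 2 G) (α γ : G → ι → F) : Prop where
  α_mul : ∀ x ∈ thompsonJ 2 (T : Subgroup G), ∀ y ∈ thompsonJ 2 (T : Subgroup G),
    α (x * y) = α x + α y
  α_ker : ∀ x ∈ thompsonJ 2 (T : Subgroup G), α x = 0 ↔ x ∈ CV 2 G
  γ_mul : ∀ v ∈ VV 2 G, ∀ w ∈ VV 2 G, γ (v * w) = γ v + γ w
  γ_surj : ∀ f : ι → F, ∃ v ∈ VV 2 G, γ v = f
  pair : ∀ v ∈ VV 2 G, γ v = 0 → v ∈ YY 2 (T : Subgroup G)
  detect : ∀ x ∈ thompsonJ 2 (T : Subgroup G), ∀ v ∈ VV 2 G,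
    ⁅x, v⁆ ∈ Subgroup.centralizer (Cfsg.pResidual 2 G : Set G) → ∀ k, α x k * γ v k = 0
  spread : ∀ X : Subgroup G, X ≤ thompsonJ 2 (T : Subgroup G) →
    (T : Subgroup G) ≤ Subgroup.normalizer (X : Set G) →
    (∃ x ∈ X, x ∉ CV 2 G) → ∀ k, ∃ x ∈ X, α x k ≠ 0

section Linear

variable {r n : ℕ} {F : Type} [Field F] [Fintype F] {T : Sylow 2 G} {M : Subgroup G}
  {E : Fin r → Subgroup G} {ρ : Fin r → G → SL(2, F)} {ψ : Fin r → G → Fin 2 → F}

theorem gpair_lin (d : Lin T E n ρ ψ) (c : Ctx T M) :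
    GPair T (fun x i => co ρ i x) (fun v i => ψ i v 1) := by
  classical
  haveI : Fact (Nat.Prime 2) := ⟨Nat.prime_two⟩
  haveI := d.charP
  have hJT : thompsonJ 2 (T : Subgroup G) ≤ (T : Subgroup G) := thompsonJ_le 2 _
  have hJN := d.J_le
  refine ⟨fun x hx y hy => funext fun i => d.co_mul (hJT hx) (hJN hx) (hJT hy) (hJN hy),
    fun x hx => ?_, fun v hv w hw => funext fun i => by rw [d.add i _ hv _ hw]; rfl, fun f => ?_,
    fun v hv h => (d.fix_iff c hv).2 fun i => congrFun h i, fun x hx v hv hz i => ?_,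
    fun X hXJ hXn hmv k => ?_⟩
  · refine ⟨fun h => d.mem_cv (hJN hx) fun i => (d.co_zero_iff (hJT hx) (hJN hx)).2 (congrFun h i),
      fun h => funext fun i => (d.co_zero_iff (hJT hx) (hJN hx)).1 (d.one_cv i x h)⟩
  · suffices ∀ S : Finset (Fin r), ∃ v ∈ VV 2 G, ∀ i, ψ i v 1 = if i ∈ S then f i else 0 by
      obtain ⟨v, hv, h⟩ := this Finset.univ
      exact ⟨v, hv, funext fun i => by simpa using h i⟩
    intro S
    induction S using Finset.induction_on with
    | empty => exact ⟨1, one_mem _, fun i => by simp [d.psi_one]⟩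
    | @insert a S ha ih =>
      obtain ⟨v, hv, h⟩ := ih
      obtain ⟨w, hw, hwa, hwo⟩ := d.onto a ![0, f a]
      refine ⟨v * w, mul_mem hv (commutator_VV_le _ hw), fun i => ?_⟩
      rw [d.add i _ hv _ (commutator_VV_le _ hw), Pi.add_apply, h i]
      rcases eq_or_ne i a with rfl | hi
      · simp [ha, hwa]
      · simp [hi, hwo i hi]
  · -- detection
    set z := ⁅x, v⁆ with hz0
    have hzV : z ∈ VV 2 G := Subgroup.commutator_le_right ⊤ _
      (Subgroup.commutator_mem_commutator (Subgroup.mem_top x) hv)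
    let m : SL(2, F) := ⟨!![0, 1; 1, 1], by
      rw [Matrix.det_fin_two_of, zero_mul, one_mul, zero_sub, CharTwo.neg_eq]⟩
    have hm : m ^ 3 = 1 := by
      refine Subtype.ext ?_
      show (!![(0 : F), 1; 1, 1]) ^ 3 = 1
      rw [pow_succ, pow_two, Matrix.mul_fin_two, Matrix.mul_fin_two]
      ext a b
      fin_cases a <;> fin_cases b <;> simp [CharTwo.add_self_eq_zero]
    obtain ⟨e, he, hρe⟩ := d.surj i m
    obtain ⟨k, hk⟩ := exists_odd_pow e
    have hmem : e ^ 4 ^ k ∈ Cfsg.pResidual 2 G := Subgroup.subset_closure hk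
    have hpow : ∀ j : ℕ, ρ i (e ^ j) = ρ i e ^ j := by
      intro j
      induction j with
      | zero => rw [pow_zero, pow_zero, d.rho_one]
      | succ j ih => rw [pow_succ, pow_succ, d.map_mul i _ (pow_mem (d.le_N i he) j) _ (d.le_N i he), ih]
    have hfix := d.equiv i _ (pow_mem (d.le_N i he) (4 ^ k)) z hzV
    rw [Subgroup.mem_centralizer_iff.1 hz _ hmem, mul_inv_cancel_right, hpow, hρe,
      pow_four_pow_of_cube hm k] at hfix
    have h1 := congrFun hfix 1
    have h0 := congrFun hfix 0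
    simp [m, Matrix.mulVec, dotProduct, Fin.sum_univ_two] at h0 h1
    have hψ0 : ψ i z 0 = 0 := h1
    have hcomm : ψ i z 0 = co ρ i x * ψ i v 1 := by
      rw [hz0, d.psi_comm (hJN hx) hv, d.co_eq (hJT hx) (hJN hx), upper_mulVec]
      simp [co, upperHom_coe]
      
    show co ρ i x * ψ i v 1 = 0
    rw [← hcomm, hψ0]
  · obtain ⟨x, hx, hxc⟩ := hmv
    obtain ⟨i, hi⟩ : ∃ i, co ρ i x ≠ 0 := by
      by_contra hc
      push Not at hc
      exact hxc (d.mem_cv (hJN (hXJ hx)) fun j => (d.co_zero_iff (hJT (hXJ hx)) (hJN (hXJ hx))).2 (hc j))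
    obtain ⟨t, ht, htE⟩ := d.conj i k
    have hx' : t * x * t⁻¹ ∈ X := (Subgroup.mem_normalizer_iff.1 (hXn ht) x).1 hx
    refine ⟨_, hx', fun h0 => hi ?_⟩
    rw [← d.co_zero_iff (hJT (hXJ hx)) (hJN (hXJ hx))]
    have h1 : ρ k (t * x * t⁻¹) = 1 :=
      (d.co_zero_iff (hJT (hXJ hx')) (hJN (hXJ hx'))).2 h0
    refine SubBlock.mulVec_eq_imp_one _ fun w0 => ?_
    obtain ⟨w, hw, hw1, -⟩ := d.onto i w0
    have hwV := commutator_VV_le _ hw
    have hw'V : t * w * t⁻¹ ∈ VV 2 G := (VV_normal (G := G) (p := 2)).conj_mem w hwV t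
    have hcV : ⁅x, w⁆ ∈ VV 2 G := Subgroup.commutator_le_right ⊤ _
      (Subgroup.commutator_mem_commutator (Subgroup.mem_top x) hwV)
    have h2 : ψ k ⁅t * x * t⁻¹, t * w * t⁻¹⁆ = 0 := by
      rw [d.psi_comm (hJN (hXJ hx')) hw'V, h1]; simp
    have h3 : ψ i ⁅x, w⁆ = 0 := by
      refine (d.zero i _ hcV).2 fun e he => ?_
      have he' : t * e * t⁻¹ ∈ E k := htE ▸ ⟨e, he, rfl⟩
      have h4 := (d.zero k _ (Subgroup.commutator_le_right ⊤ _
        (Subgroup.commutator_mem_commutator (Subgroup.mem_top _) hw'V))).1 h2 _ he'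
      have h5 := h4.map (MulAut.conj t⁻¹).toMonoidHom
      rw [show (MulAut.conj t⁻¹).toMonoidHom (t * e * t⁻¹) = e by simp [mul_assoc],
        show (MulAut.conj t⁻¹).toMonoidHom ⁅t * x * t⁻¹, t * w * t⁻¹⁆ = ⁅x, w⁆ by
          simp only [commutatorElement_def]; simp [mul_assoc]] at h5
      exact h5
    rw [d.psi_comm (hJN (hXJ hx)) hwV, sub_eq_zero, hw1] at h3
    exact h3

end Linear

section Symmetric

variable {r n : ℕ} {T : Sylow 2 G} {M : Subgroup G} {K : Subgroup G} {E : Fin r → Subgroup G}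
  {η : G → Fin r → Fin (Sym.deg n) → ZMod 2} {ρ : G → Fin r → Perm (Fin (Sym.deg n))}

/-- One point from each pair. -/
abbrev Reps (τ : Fin r → Perm (Fin (Sym.deg n))) : Type :=
  Σ i : Fin r, {x : Fin (Sym.deg n) // x < τ i x}

theorem gpair_sym {d : Sym.Sys T n K E η ρ} {o : Fin r → Fin (Sym.deg n)}
    {τ : Fin r → Perm (Fin (Sym.deg n))} (s : Sym.Shape d o τ) (c : Ctx T M) :
    GPair T (fun x (q : Reps τ) => if ρ x q.1 q.2.1 = q.2.1 then (0 : ZMod 2) else 1)
      (fun v q => η v q.1 q.2.1 + η v q.1 (τ q.1 q.2.1)) := by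
  classical
  set J := thompsonJ 2 (T : Subgroup G) with hJdef
  have hJK : J ≤ K := s.J_le_K c
  have hpres : ∀ x ∈ J, ∀ i z, ρ x i z = z ∨ ρ x i z = τ i z := by
    let H : Subgroup G :=
      { carrier := {k | k ∈ K ∧ ∀ i z, ρ k i z = z ∨ ρ k i z = τ i z}
        one_mem' := ⟨one_mem K, fun i z => Or.inl (by rw [d.ρ_one]; rfl)⟩
        mul_mem' := fun {a b} ha hb => ⟨mul_mem ha.1 hb.1, fun i z => by
          rw [d.ρ_mul ha.1 hb.1, Perm.mul_apply]
          rcases hb.2 i z with e | e <;> rw [e]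
          · exact ha.2 i z
          · rcases ha.2 i (τ i z) with e' | e' <;> rw [e']
            · exact Or.inr rfl
            · exact Or.inl (s.inv i z)⟩
        inv_mem' := fun {a} ha => ⟨inv_mem ha.1, fun i z => by
          rw [d.ρ_inv ha.1]
          rcases ha.2 i ((ρ a i)⁻¹ z) with e | e
          · rw [show ρ a i ((ρ a i)⁻¹ z) = z from (ρ a i).apply_symm_apply z] at e
            exact Or.inl e.symm
          · rw [show ρ a i ((ρ a i)⁻¹ z) = z from (ρ a i).apply_symm_apply z] at e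
            right
            conv_rhs => rw [e]
            rw [s.inv]⟩ }
    have hle : J ≤ H := sSup_le fun A hA a ha =>
      ⟨d.A_le A hA ha, fun i z => s.orbit i A hA _ (d.ρ_mem_img ha (d.A_le A hA ha)) z⟩
    exact fun x hx => (hle hx).2
  have hall : ∀ x ∈ J, (∀ q : Reps τ, ρ x q.1 q.2.1 = q.2.1) → ∀ i, ρ x i = 1 := by
    intro x hx h i
    refine Equiv.ext fun z => ?_
    rw [Perm.one_apply]
    rcases lt_trichotomy z (τ i z) with hlt | heq | hgt
    · exact h ⟨i, z, hlt⟩
    · rcases hpres x hx i z with e | e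
      · exact e
      · exact e.trans heq.symm
    · have hw := h ⟨i, τ i z, by rw [s.inv]; exact hgt⟩
      rcases hpres x hx i z with e | e
      · exact e
      · exact absurd ((ρ x i).injective (e.trans hw.symm)) (ne_of_gt hgt)
  refine ⟨fun x hx y hy => funext fun q => ?_, fun x hx => ?_, fun v hv w hw => funext fun q => ?_,
    fun f => ?_, fun v hv h => ?_, fun x hx v hv hz q => ?_, fun X hXJ hXn hmv q => ?_⟩
  · obtain ⟨i, p, hp⟩ := q
    show (if ρ (x * y) i p = p then (0 : ZMod 2) else 1) =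
      (if ρ x i p = p then 0 else 1) + (if ρ y i p = p then 0 else 1)
    rw [d.ρ_mul (hJK hx) (hJK hy), Perm.mul_apply]
    have hne : τ i p ≠ p := (ne_of_lt hp).symm
    rcases hpres y hy i p with e | e <;> rw [e]
    · simp
    · rcases hpres x hx i (τ i p) with e' | e' <;> rw [e']
      · have : ρ x i p = p := by
          rcases hpres x hx i p with h | h
          · exact h
          · exact absurd ((ρ x i).injective (h.trans e'.symm)) (ne_of_lt hp)
        simp [hne, this]
      · have : ρ x i p ≠ p := fun h => hne ((ρ x i).injective ((e'.trans (s.inv i p)).trans h.symm))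
        rw [s.inv, if_pos rfl, if_neg this, if_neg hne]
        rfl
  · constructor
    · intro h
      refine d.ρ_ker x (hJK hx) (hall x hx fun q => ?_)
      by_contra hne
      have := congrFun h q
      simp [hne] at this
    · intro h
      funext q
      simp [d.ρ_CV h]
  · show η (v * w) q.1 _ + η (v * w) q.1 _ = η v q.1 _ + η v q.1 _ + (η w q.1 _ + η w q.1 _)
    rw [d.η_mul q.1 v hv w hw, Pi.add_apply, Pi.add_apply, add_add_add_comm]
  · let g : Fin r → Fin (Sym.deg n) → ZMod 2 := fun i z =>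
      if h : z < τ i z then f ⟨i, z, h⟩ else 0
    let g' : Fin r → Fin (Sym.deg n) → ZMod 2 := fun i =>
      g i + Function.update (0 : Fin (Sym.deg n) → ZMod 2) (o i) (∑ z, g i z)
    have hoz : ∀ i, g i (o i) = 0 := fun i => by simp [g, s.fix_o]
    obtain ⟨v, hv, hv'⟩ := d.η_surj g' fun i => by
      show ∑ z, (g i z + Function.update (0 : Fin (Sym.deg n) → ZMod 2) (o i) (∑ z, g i z) z) = 0
      rw [Finset.sum_add_distrib, Finset.sum_update_of_mem (Finset.mem_univ _)]
      simp only [Pi.zero_apply, Finset.sum_const_zero, add_zero]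
      exact Sym.zadd_self _
    refine ⟨v, hv, funext fun ⟨i, p, hp⟩ => ?_⟩
    have hne : τ i p ≠ p := (ne_of_lt hp).symm
    have hpo : p ≠ o i := fun e => hne (by rw [e, s.fix_o])
    have hτo : τ i p ≠ o i := fun e => hpo (by rw [← s.inv i p, e, s.fix_o])
    show η v i p + η v i (τ i p) = f ⟨i, p, hp⟩
    rw [hv']
    simp [g', g, hp, hpo, hτo, s.inv, not_lt.2 hp.le]
  · refine (s.mem_YY c hv).2 fun i z => ?_
    rcases lt_trichotomy z (τ i z) with hlt | heq | hgt
    · exact (CharTwo.add_eq_zero.1 (congrFun h ⟨i, z, hlt⟩)).symm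
    · rw [← heq]
    · have e := congrFun h ⟨i, τ i z, by rw [s.inv]; exact hgt⟩
      simp only [s.inv, Pi.zero_apply] at e
      exact CharTwo.add_eq_zero.1 e
  · obtain ⟨i, p, hp⟩ := q
    set z := ⁅x, v⁆ with hz0
    have hzV : z ∈ VV 2 G := Subgroup.commutator_le_right ⊤ _
      (Subgroup.commutator_mem_commutator (Subgroup.mem_top x) hv)
    have hconst : ∀ a b, η z i a = η z i b := by
      intro a b
      rcases eq_or_ne a b with rfl | hab
      · rfl
      obtain ⟨w, hw⟩ : ∃ w, w ∉ ({a, b} : Finset (Fin (Sym.deg n))) := by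
        by_contra hc
        push Not at hc
        have h2 := Finset.card_le_two (a := a) (b := b)
        rw [Finset.eq_univ_iff_forall.2 hc, Finset.card_univ] at h2
        have := d.three_le
        omega
      simp only [Finset.mem_insert, Finset.mem_singleton, not_or] at hw
      set π := swap a b * swap a w with hπ
      have hπ3 : π ^ 3 = 1 := by
        rw [← (Perm.isThreeCycle_swap_mul_swap_same hab (Ne.symm hw.1) (Ne.symm hw.2)).orderOf]
        exact pow_orderOf_eq_one π
      obtain ⟨e, he, hρe⟩ := d.ρ_surj i π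
      obtain ⟨k, hk⟩ := exists_odd_pow e
      have hmem : e ^ 4 ^ k ∈ Cfsg.pResidual 2 G := Subgroup.subset_closure hk
      have hpow : ∀ j : ℕ, ρ (e ^ j) i = ρ e i ^ j := by
        intro j
        induction j with
        | zero => rw [pow_zero, pow_zero, d.ρ_one]
        | succ j ih => rw [pow_succ, pow_succ, d.ρ_mul (pow_mem (d.E_le i he) j) (d.E_le i he), ih]
      have hfix := d.equiv _ (pow_mem (d.E_le i he) (4 ^ k)) z hzV i
      rw [Subgroup.mem_centralizer_iff.1 hz _ hmem, mul_inv_cancel_right, hpow, hρe,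
        pow_four_pow_of_cube hπ3 k] at hfix
      have e1 := congrFun hfix (π a)
      have e2 := congrFun hfix (π w)
      simp only [Sym.act, show π⁻¹ (π a) = a from π.symm_apply_apply a,
        show π⁻¹ (π w) = w from π.symm_apply_apply w] at e1 e2
      have hpa : π a = w := by
        simp [π, Equiv.swap_apply_of_ne_of_ne hw.1 hw.2]
      have hpw : π w = b := by simp [π]
      rw [hpa] at e1
      rw [hpw] at e2
      rw [← e1, ← e2]
    have hzero : η z i = 0 :=
      Sym.eq_zero_of_transitive d.odd_deg (d.η_even i z hzV) hconst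
    have hval : η z i (τ i p) = η v i ((ρ x i)⁻¹ (τ i p)) + η v i (τ i p) := by
      have e : z = (x * v * x⁻¹) * v⁻¹ := commutatorElement_def x v
      rw [e, d.η_mul i _ (d.conj_V hv) _ (inv_mem hv), d.η_inv i hv, d.equiv x (hJK hx) v hv i]
      rfl
    show (if ρ x i p = p then (0 : ZMod 2) else 1) * (η v i p + η v i (τ i p)) = 0
    split_ifs with hxp
    · exact zero_mul _
    · have hxτ : ρ x i p = τ i p := (hpres x hx i p).resolve_left hxp
      rw [hzero, Pi.zero_apply, show (ρ x i)⁻¹ (τ i p) = p from by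
        rw [← hxτ]; exact (ρ x i).symm_apply_apply p] at hval
      rw [one_mul, ← hval]
  · obtain ⟨x, hx, hxc⟩ := hmv
    obtain ⟨k, p, hp⟩ := q
    obtain ⟨i, z, hiz⟩ : ∃ i z, ρ x i z ≠ z := by
      by_contra hc
      push Not at hc
      exact hxc (d.ρ_ker x (hJK (hXJ hx)) fun i => Equiv.ext fun z => hc i z)
    obtain ⟨t, ht, htE⟩ := d.trans i k
    have hx' : t * x * t⁻¹ ∈ X := (Subgroup.mem_normalizer_iff.1 (hXn ht) x).1 hx
    obtain ⟨z', hz'⟩ : ∃ z', ρ (t * x * t⁻¹) k z' ≠ z' := by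
      by_contra hc
      push Not at hc
      refine hiz (?_ : ρ x i z = z)
      suffices hρ : ρ x i = 1 by rw [hρ]; rfl
      refine d.ρ_unique (hJK (hXJ hx)) i fun v hv => ?_
      rw [Sym.act_one]
      have hxv := mul_mem (d.conj_V (g := x) hv) hv
      have h0 : η (x * v * x⁻¹ * v) i = 0 := by
        refine (d.η_ker i _ hxv).2 (Subgroup.mem_centralizer_iff.2 fun e he => ?_)
        have he' : t * e * t⁻¹ ∈ E k := htE ▸ ⟨e, he, rfl⟩
        have hv' := d.conj_V (g := t) hv
        have h1 : η ((t * x * t⁻¹) * (t * v * t⁻¹) * (t * x * t⁻¹)⁻¹ * (t * v * t⁻¹)) k = 0 := by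
          rw [d.η_mul k _ (d.conj_V hv') _ hv', d.equiv _ (hJK (hXJ hx')) _ hv' k,
            show ρ (t * x * t⁻¹) k = 1 from Equiv.ext hc, Sym.act_one, Sym.vadd_self]
        have h2 := Subgroup.mem_centralizer_iff.1
          ((d.η_ker k _ (mul_mem (d.conj_V hv') hv')).1 h1) _ he'
        refine (MulAut.conj t).injective ?_
        simp only [MulAut.conj_apply]
        calc t * (e * (x * v * x⁻¹ * v)) * t⁻¹
            = (t * e * t⁻¹) * ((t * x * t⁻¹) * (t * v * t⁻¹) * (t * x * t⁻¹)⁻¹ * (t * v * t⁻¹)) := by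
              group
          _ = _ := by rw [h2]; group
      rw [d.η_mul i _ (d.conj_V hv) _ hv] at h0
      funext w
      exact CharTwo.add_eq_zero.1 (congrFun h0 w)
    have hz'o : z' ≠ o k := fun e => hz' (by
      rw [e]; exact s.fixT k _ (d.ρ_mem_img ((thompsonJ_le 2 _) (hXJ hx')) (hJK (hXJ hx'))))
    have hpo : p ≠ o k := fun e => (ne_of_lt hp) (by rw [e, s.fix_o])
    obtain ⟨π, hπ, hπz⟩ := s.trans k z' p hz'o hpo
    obtain ⟨t', ht', ht'K, rfl⟩ := d.mem_img.1 hπ
    have hx'' : t' * (t * x * t⁻¹) * t'⁻¹ ∈ X := (Subgroup.mem_normalizer_iff.1 (hXn ht') _).1 hx'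
    refine ⟨_, hx'', ?_⟩
    show (if ρ (t' * (t * x * t⁻¹) * t'⁻¹) k p = p then (0 : ZMod 2) else 1) ≠ 0
    rw [d.ρ_conj ht'K (hJK (hXJ hx')), if_neg]
    · exact one_ne_zero
    · rw [← hπz, Perm.mul_apply, Perm.mul_apply,
        show (ρ t' k)⁻¹ (ρ t' k z') = z' from (ρ t' k).symm_apply_apply z']
      exact fun e => hz' ((ρ t' k).injective e)

end Symmetric

end CfsgLib.OddAut
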